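import Cfsg.Agent.H962.PP.Psl
import Cfsg.Agent.H962.PP.Conj
import Cfsg.Agent.H494.TC.Base
import Cfsg.Agent.H953.Rcf

/-!
# One class of prime order in `PSL_n(q)` whose square contains every `g ≠ 1` (S4173, S2464, S2452)

* `pp_of_adm` : the class of `diag (1, C)`, `C` cyclic with charpoly `f`, `(X - 1) f ∣ X ^ s - 1`;
* `pp_psl` : `n ≥ 4`, all `q`;
* `pp_psl_three` : `n = 3`, if some prime `s ≥ 5` divides `q² - 1`.
-/

set_option autoImplicit false

namespace Cfsg.Agent.H962.TC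

open Matrix Polynomial Cfsg.Agent.H962.PP

section field
variable {F : Type*} [Field F]

/-- a cyclic matrix with prescribed characteristic polynomial -/
theorem exists_cyc {f : F[X]} (hf : f.Monic) {n : ℕ} (hd : f.natDegree = n + 1) :
    ∃ M : Matrix (Fin (n + 1)) (Fin (n + 1)) F, M.charpoly = f ∧ Cyc M := by
  obtain ⟨M, hM⟩ : ∃ M : Matrix (Fin (n + 1)) (Fin (n + 1)) F, M =
      (H953.comp f).submatrix (finCongr hd.symm) (finCongr hd.symm) := ⟨_, rfl⟩
  refine ⟨M, ?_, ?_⟩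
  · rw [hM]
    exact (Matrix.charpoly_reindex (finCongr hd) (H953.comp f)).trans (H953.charpoly_comp hf)
  · have hstep : ∀ i : ℕ, (hi : i + 1 < n + 1) → M *ᵥ Pi.single ⟨i, by omega⟩ 1 = Pi.single ⟨i + 1, hi⟩ 1 := by
      intro i hi
      rw [Matrix.mulVec_single_one]
      ext j
      rw [hM]
      simp only [Matrix.col_apply, Matrix.submatrix_apply, H953.comp, Matrix.of_apply, finCongr_apply, Fin.val_cast]
      rw [if_neg (by omega), Pi.single_apply]
      simp only [Fin.ext_iff]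
    have hpow : ∀ i : ℕ, (hi : i < n + 1) → (M ^ i) *ᵥ Pi.single 0 1 = Pi.single ⟨i, hi⟩ 1 := by
      intro i
      induction i with
      | zero => intro _; rw [pow_zero, Matrix.one_mulVec]; rfl
      | succ i ih =>
        intro hi
        rw [pow_succ', ← Matrix.mulVec_mulVec, ih (by omega), hstep i hi]
    refine ⟨Pi.single 0 1, ?_⟩
    have h1 : (fun i : Fin (n + 1) => (M ^ (i : ℕ)) *ᵥ (Pi.single 0 1 : Fin (n + 1) → F)) = ⇑(Pi.basisFun F (Fin (n + 1))) := by
      funext i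
      rw [hpow i i.2, Pi.basisFun_apply]
    rw [h1]
    exact (Pi.basisFun F (Fin (n + 1))).linearIndependent

/-- **the class of `diag (1, C)`** -/
theorem pp_of_adm [Finite F] {k s : ℕ} (hs : s.Prime) (h5 : 5 ≤ s) (hsF : ¬ s ∣ Nat.card F) (ha : Adm F (k + 1) s)
    (hk : 1 ≤ k) : H494.TC.PP (ProjectiveSpecialLinearGroup (Fin (k + 2)) F) := by
  obtain ⟨f, hf, hfd, hfdvd, hf0⟩ := ha
  have hsF' : ((s : ℕ) : F) ≠ 0 := by
    intro h0
    obtain ⟨p, hpc⟩ := CharP.exists F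
    have hp : Fact p.Prime := ⟨CharP.char_is_prime F p⟩
    have h1 : p ∣ s := (CharP.cast_eq_zero_iff F p s).1 h0
    have h2 : p = s := (Nat.prime_dvd_prime_iff_eq hp.out hs).1 h1
    have h3 : ((Nat.card F : ℕ) : F) = 0 := by
      let _ : Fintype F := Fintype.ofFinite F
      rw [Nat.card_eq_fintype_card]
      exact FiniteField.cast_card_eq_zero F
    exact hsF (h2 ▸ (CharP.cast_eq_zero_iff F p _).1 h3)
  have hf1 : f.eval 1 ≠ 0 := by
    have h1 : ((X : F[X]) ^ s - 1).Separable := by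
      have := X_pow_sub_one_separable_iff (F := F) (n := s)
      exact this.2 hsF'
    obtain ⟨g, hg⟩ := hfdvd
    rw [hg] at h1
    have h2 : IsCoprime (X - 1 : F[X]) f := (h1.of_mul_left).isCoprime
    intro h3
    obtain ⟨a, b, hab⟩ := h2
    have h4 := congrArg (eval 1) hab
    rw [eval_add, eval_mul, eval_mul, h3, eval_sub, eval_X, eval_one, sub_self, mul_zero, mul_zero, add_zero] at h4
    exact zero_ne_one h4
  obtain ⟨C₀, hCc, hC⟩ := exists_cyc hf hfd
  have hdet : C₀.det = 1 := by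
    rw [det_eq_sign_charpoly_coeff, hCc, Fintype.card_fin, hf0]
  have hd : C₀.charpoly.eval 1 ≠ 0 := by rw [hCc]; exact hf1
  have hC0 : C₀.det ≠ 0 := by rw [hdet]; exact one_ne_zero
  obtain ⟨x₀, hx₀⟩ : ∃ x₀ : SpecialLinearGroup (Fin (k + 2)) F, x₀.val = blk 1 C₀ :=
    ⟨⟨blk 1 C₀, by rw [blk_det, hdet, one_mul]⟩, rfl⟩
  have hpow : x₀ ^ s = 1 := by
    have h1 : (x₀ ^ s).val = x₀.val ^ s := Matrix.SpecialLinearGroup.coe_pow x₀ s
    refine Subtype.ext (h1.trans ?_)
    rw [hx₀]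
    refine pow_eq_one_of_charpoly ?_
    rw [blk_charpoly, hCc, C_1]
    exact hfdvd
  have hns : QuotientGroup.mk' (Subgroup.center (SpecialLinearGroup (Fin (k + 2)) F)) x₀ ≠ 1 := by
    intro h
    have h1 := (QuotientGroup.eq_one_iff x₀).mp h
    rw [Matrix.SpecialLinearGroup.mem_center_iff] at h1
    obtain ⟨c, -, hc⟩ := h1
    have h2 : (scalar (Fin (k + 2)) c) = blk 1 C₀ := hc.trans hx₀
    have h3 : c = 1 := by
      have := congrFun (congrFun h2 0) 0
      rw [blk_zero_zero] at this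
      simpa using this
    have h4 : C₀ = 1 := by
      ext i j
      have := congrFun (congrFun h2 i.succ) j.succ
      rw [blk_succ_succ, h3] at this
      rw [← this]
      by_cases hij : i = j
      · subst hij; simp
      · rw [Matrix.one_apply_ne hij]
        simp [Fin.succ_inj, hij]
    apply hd
    rw [h4, Matrix.charpoly_one, eval_pow, eval_sub, eval_X, eval_one, sub_self, Fintype.card_fin, zero_pow (by omega)]
  refine ⟨QuotientGroup.mk' _ x₀, ?_, ?_, fun g hg => ?_⟩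
  · rw [orderOf_eq_prime (p := s) (hp := ⟨hs⟩) (by rw [← map_pow, hpow, map_one]) hns]
    exact hs
  · rw [orderOf_eq_prime (p := s) (hp := ⟨hs⟩) (by rw [← map_pow, hpow, map_one]) hns]
    have h2 : Nat.Coprime s 2 := (Nat.coprime_primes hs Nat.prime_two).2 (by omega)
    have h3 : Nat.Coprime s 3 := (Nat.coprime_primes hs Nat.prime_three).2 (by omega)
    exact Nat.Coprime.mul_right h2 h3
  obtain ⟨A, rfl⟩ := QuotientGroup.mk'_surjective
    (Subgroup.center (SpecialLinearGroup (Fin (k + 2)) F)) g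
  have hA : ∀ c : F, (A : Matrix (Fin (k + 2)) (Fin (k + 2)) F) ≠ scalar (Fin (k + 2)) c := by
    intro c hc
    apply hg
    refine (QuotientGroup.eq_one_iff A).mpr ?_
    rw [Matrix.SpecialLinearGroup.mem_center_iff]
    refine ⟨c, ?_, hc.symm⟩
    have h1 := A.det_coe
    rw [hc, Matrix.scalar_apply, Matrix.det_diagonal, Finset.prod_const, Finset.card_univ] at h1
    exact h1
  obtain ⟨P, Q, hP, hQ, h⟩ := exists_mul_conj_blk (A : Matrix (Fin (k + 2)) (Fin (k + 2)) F) hA 1 C₀ hC hC0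
    one_ne_zero hd 1 C₀ hC hC0 one_ne_zero hd (by rw [hdet, A.det_coe]; ring)
  obtain ⟨P', hP'⟩ : ∃ P' : SpecialLinearGroup (Fin (k + 2)) F, P'.val = P := ⟨⟨P, hP⟩, rfl⟩
  obtain ⟨Q', hQ'⟩ : ∃ Q' : SpecialLinearGroup (Fin (k + 2)) F, Q'.val = Q := ⟨⟨Q, hQ⟩, rfl⟩
  have hi : ∀ (R : Matrix (Fin (k + 2)) (Fin (k + 2)) F) (R' : SpecialLinearGroup (Fin (k + 2)) F),
      R'.val = R → R⁻¹ = (R'⁻¹).val := by
    intro R R' hR
    apply Matrix.inv_eq_right_inv
    have h1 : (R' * R'⁻¹).val = 1 := by rw [mul_inv_cancel]; rfl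
    rw [← hR]
    exact h1
  have e : A = (P' * x₀ * P'⁻¹) * (Q' * x₀ * Q'⁻¹) := by
    apply Subtype.ext
    rw [h, hi P P' hP', hi Q Q' hQ', ← hP', ← hQ', ← hx₀]
    rfl
  refine ⟨QuotientGroup.mk' _ P', QuotientGroup.mk' _ Q', ?_⟩
  conv_lhs => rw [e]
  rfl

/-- **`PSL_n(q)`, `n ≥ 4`** -/
theorem pp_psl {n : ℕ} (hn : 4 ≤ n) (F : Type*) [Field F] [Finite F] :
    H494.TC.PP (ProjectiveSpecialLinearGroup (Fin n) F) := by
  obtain ⟨k, rfl⟩ : ∃ k, n = k + 2 := ⟨n - 2, by omega⟩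
  obtain ⟨s, hs, -, h5, hsq, hsa⟩ := exists_adm (F := F) (d := k + 1) (by omega)
  exact pp_of_adm hs h5 hsq hsa (by omega)

/-- **`PSL_3(q)`** -/
theorem pp_psl_three (F : Type*) [Field F] [Finite F] {s : ℕ} (hs : s.Prime) (h5 : 5 ≤ s)
    (hsq : s ∣ Nat.card F ^ 2 - 1) : H494.TC.PP (ProjectiveSpecialLinearGroup (Fin 3) F) := by
  have hq : 2 ≤ Nat.card F := Finite.one_lt_card
  have hnd : ¬ s ∣ Nat.card F := by
    intro h
    have h1 : s ∣ Nat.card F ^ 2 := dvd_pow h (by norm_num)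
    have h2 : s ∣ 1 := by
      have := Nat.dvd_sub h1 hsq
      rwa [Nat.sub_sub_self (Nat.one_le_pow _ _ (by omega))] at this
    have := Nat.le_of_dvd one_pos h2
    omega
  refine pp_of_adm (k := 1) hs h5 hnd ?_ le_rfl
  by_cases h1 : s ∣ Nat.card F - 1
  · -- split
    let _ : Fintype F := Fintype.ofFinite F
    obtain ⟨u, hu⟩ := IsCyclic.exists_generator (α := Fˣ)
    have hcard : orderOf u = Nat.card F - 1 := by
      rw [orderOf_eq_card_of_forall_mem_zpowers hu, Nat.card_units]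
    obtain ⟨m, hm⟩ := h1
    have hm0 : m ≠ 0 := by
      rintro rfl
      omega
    have hν : orderOf (u ^ m) = s := by
      rw [orderOf_pow' u hm0, hcard, hm, Nat.gcd_eq_right (Dvd.intro_left s rfl), Nat.mul_div_cancel _ (Nat.pos_of_ne_zero hm0)]
    obtain ⟨ν, hνd⟩ : ∃ ν : F, ν = ((u ^ m : Fˣ) : F) := ⟨_, rfl⟩
    have hν0 : ν ≠ 0 := by rw [hνd]; exact Units.ne_zero _
    have hνs : ν ^ s = 1 := by
      rw [hνd, ← Units.val_pow_eq_pow_val, ← hν, pow_orderOf_eq_one, Units.val_one]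
    have hν1 : ν ≠ 1 := by
      intro h
      have h2 : u ^ m = 1 := Units.ext (by rw [← hνd, h, Units.val_one])
      rw [h2, orderOf_one] at hν
      omega
    have hν2 : ν ≠ ν⁻¹ := by
      intro h
      have h2 : ν ^ 2 = 1 := by
        rw [pow_two]
        nth_rw 2 [h]
        exact mul_inv_cancel₀ hν0
      have h3 : (u ^ m) ^ 2 = 1 := Units.ext (by rw [Units.val_pow_eq_pow_val, ← hνd, h2, Units.val_one])
      have h4 := orderOf_dvd_of_pow_eq_one h3
      rw [hν] at h4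
      have := Nat.le_of_dvd (by norm_num) h4
      omega
    refine ⟨(X - C ν) * (X - C ν⁻¹), (monic_X_sub_C _).mul (monic_X_sub_C _), ?_, ?_, ?_⟩
    · rw [natDegree_mul (X_sub_C_ne_zero _) (X_sub_C_ne_zero _), natDegree_X_sub_C, natDegree_X_sub_C]
    · have hroot : ∀ a : F, a ^ s = 1 → (X - C a) ∣ (X ^ s - 1 : F[X]) := by
        intro a ha
        rw [dvd_iff_isRoot, IsRoot.def, eval_sub, eval_pow, eval_X, eval_one, ha, sub_self]
      have hcop : ∀ a b : F, a ≠ b → IsCoprime (X - C a) (X - C b) := fun a b hab =>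
        isCoprime_X_sub_C_of_isUnit_sub (isUnit_iff_ne_zero.2 (sub_ne_zero.2 hab))
      have hν1' : (1 : F) ≠ ν⁻¹ := fun h => hν1 (by rw [← inv_inv ν, ← h, inv_one])
      rw [show (X - 1 : F[X]) = X - C 1 by rw [C_1]]
      refine IsCoprime.mul_dvd (IsCoprime.mul_right (hcop _ _ (Ne.symm hν1)) (hcop _ _ hν1')) (hroot 1 (one_pow s))
        (IsCoprime.mul_dvd (hcop _ _ hν2) (hroot _ hνs) (hroot _ (by rw [inv_pow, hνs, inv_one])))
    · rw [mul_coeff_zero]
      simp [mul_inv_cancel₀ hν0]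
  · refine adm_prime hs le_rfl ?_
    have := Fact.mk hs
    refine (orderOf_eq_prime_iff (p := 2)).2 ⟨?_, ?_⟩
    · rw [← Nat.cast_pow, ← Nat.cast_one, ZMod.natCast_eq_natCast_iff]
      exact ((Nat.modEq_iff_dvd' (Nat.one_le_pow _ _ (by omega))).2 hsq).symm
    · intro h
      apply h1
      rw [← Nat.cast_one, ZMod.natCast_eq_natCast_iff] at h
      exact (Nat.modEq_iff_dvd' (by omega)).1 h.symm

end field

end Cfsg.Agent.H962.TC
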