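import Cfsg.Agent.H962.TC.Num
import Cfsg.Agent.H210.TC.Row
import Cfsg.Agent.H394.SqPsl2
import Cfsg.Agent.H459.TC.Alt
import Cfsg.Agent.S0494
import Cfsg.Agent.S2455
import Cfsg.Agent.S2456

/-!
# `PSL_2(q)` : S2464 and S2452

* `row3_psl_two` : `q ≥ 4`, `q ≠ 7, 17`: `Row3` (S4173, S2464, S2452);
* `s2452_psl_two` : S2452 for all `q ≥ 4`.
-/

set_option autoImplicit false

namespace Cfsg.Agent.H962.TC

open Matrix Cfsg.Agent.H210.TC

section
variable {F : Type*} [Field F] [Fintype F]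

theorem finite_psl : Finite (ProjectiveSpecialLinearGroup (Fin 2) F) := by
  unfold ProjectiveSpecialLinearGroup
  infer_instance

theorem isPrimePow_card : ∃ p n : ℕ, p.Prime ∧ CharP F p ∧ 0 < n ∧ Fintype.card F = p ^ n := by
  obtain ⟨p, hp⟩ := CharP.exists F
  obtain ⟨n, hpp, hn⟩ := FiniteField.card F p
  exact ⟨p, n, hpp, hp, n.pos, hn⟩

/-- an element of prime order `s ≥ 3`, `s ∣ q² - 1` -/
theorem exists_elt {s : ℕ} (hs : s.Prime) (h3 : 3 ≤ s) (hd : s ∣ Fintype.card F ^ 2 - 1) :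
    ∃ x : ProjectiveSpecialLinearGroup (Fin 2) F, orderOf x = s := by
  have hf : Finite (ProjectiveSpecialLinearGroup (Fin 2) F) := finite_psl
  have h1 : s ∣ Nat.card (ProjectiveSpecialLinearGroup (Fin 2) F) := by
    have h2 := Cfsg.Agent.H394.SqPsl2.card_psl (F := F)
    have h4 : s ∣ Nat.gcd 2 (Fintype.card F - 1) * Nat.card (ProjectiveSpecialLinearGroup (Fin 2) F) := by
      rw [h2]
      exact Dvd.dvd.mul_left hd _
    rcases hs.dvd_mul.1 h4 with h | h
    · have h5 := Nat.le_of_dvd (by norm_num) (h.trans (Nat.gcd_dvd_left 2 (Fintype.card F - 1)))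
      omega
    · exact h
  have : Fact s.Prime := ⟨hs⟩
  exact exists_prime_orderOf_dvd_card' s h1

/-- `q` odd -/
theorem sq_odd {s : ℕ} (hs : s.Prime) (h3 : 3 ≤ s) (hd : s ∣ Fintype.card F ^ 2 - 1) (ho : Odd (Fintype.card F))
    (h5 : 5 ≤ Fintype.card F) : ∃ x : ProjectiveSpecialLinearGroup (Fin 2) F, orderOf x = s ∧
      ∀ g : ProjectiveSpecialLinearGroup (Fin 2) F, g ≠ 1 → ∃ u v, g = (u * x * u⁻¹) * (v * x * v⁻¹) := by
  obtain ⟨p, n, hp, hpc, hn, hc⟩ := isPrimePow_card (F := F)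
  obtain ⟨x, hx⟩ := exists_elt hs h3 hd
  have : Fact p.Prime := ⟨hp⟩
  refine ⟨x, hx, Cfsg.Agent.S2455.result p ?_ h5 x (by omega) ?_⟩
  · rintro rfl
    rw [hc] at ho
    exact (Nat.not_odd_iff_even.2 (Even.pow_of_ne_zero (by decide) hn.ne')) ho
  · rw [hx]
    intro h
    have h1 : p = s := (Nat.prime_dvd_prime_iff_eq hp hs).1 h
    subst h1
    have h2 : p ∣ Fintype.card F ^ 2 := by
      rw [hc]
      exact Dvd.dvd.pow (dvd_pow_self p hn.ne') (by norm_num)
    have h3 : 1 ≤ Fintype.card F ^ 2 := Nat.one_le_pow _ _ (by omega)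
    have h4 : p ∣ 1 := by
      have := (Nat.dvd_sub h2 hd)
      rwa [Nat.sub_sub_self h3] at this
    exact hp.one_lt.ne' (Nat.dvd_one.1 h4)

/-- `q` even -/
theorem sq_even {s : ℕ} (hs : s.Prime) (h3 : 3 ≤ s) (hd : s ∣ Fintype.card F - 1) (ho : Even (Fintype.card F))
    (h5 : 4 ≤ Fintype.card F) : ∃ x : ProjectiveSpecialLinearGroup (Fin 2) F, orderOf x = s ∧
      ∀ g : ProjectiveSpecialLinearGroup (Fin 2) F, g ≠ 1 → ∃ u v, g = (u * x * u⁻¹) * (v * x * v⁻¹) := by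
  obtain ⟨p, n, hp, hpc, hn, hc⟩ := isPrimePow_card (F := F)
  have hq : Fintype.card F ^ 2 - 1 = (Fintype.card F - 1) * (Fintype.card F + 1) := by
    obtain ⟨r, hr⟩ := Nat.exists_eq_add_of_le (show 1 ≤ Fintype.card F by omega)
    rw [hr, Nat.add_sub_cancel_left, Nat.sub_eq_iff_eq_add (Nat.one_le_pow _ _ (by omega))]
    ring
  obtain ⟨x, hx⟩ := exists_elt hs h3 (hq ▸ Dvd.dvd.mul_right hd _)
  have h2 : p = 2 := by
    rw [hc] at ho
    have := (Nat.even_pow.1 ho).1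
    exact (Nat.Prime.even_iff hp).1 this
  subst h2
  refine ⟨x, hx, Cfsg.Agent.S2456.result h5 x (by omega) ?_⟩
  rw [hx]
  intro h
  have h4 : s ∣ 2 := by
    have := Nat.dvd_sub h hd
    rwa [show Fintype.card F + 1 - (Fintype.card F - 1) = 2 by omega] at this
  have := Nat.le_of_dvd (by norm_num) h4
  omega

/-- `q = 4, 5` -/
theorem row3_sixty (h : Fintype.card F = 4 ∨ Fintype.card F = 5) : Row3 (ProjectiveSpecialLinearGroup (Fin 2) F) := by
  have hf : Finite (ProjectiveSpecialLinearGroup (Fin 2) F) := finite_psl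
  have hs : IsSimpleGroup (ProjectiveSpecialLinearGroup (Fin 2) F) :=
    Matrix.ProjectiveSpecialLinearGroup.rank_two_simple (by rw [Nat.card_eq_fintype_card]; omega)
  have hc : Nat.card (ProjectiveSpecialLinearGroup (Fin 2) F) = 60 := by
    have h2 := Cfsg.Agent.H394.SqPsl2.card_psl (F := F)
    rcases h with h | h
    · rw [h] at h2
      norm_num at h2
      omega
    · rw [h] at h2
      norm_num at h2
      omega
  obtain ⟨e⟩ := Cfsg.Agent.S0494.result hc
  exact Row3.of_equiv e Cfsg.Agent.H459.TC.row3_five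

/-- **`PSL_2(q)`, `q ≠ 7, 17`** -/
theorem row3_psl_two (h4 : 4 ≤ Fintype.card F) (h7 : Fintype.card F ≠ 7) (h17 : Fintype.card F ≠ 17) :
    Row3 (ProjectiveSpecialLinearGroup (Fin 2) F) := by
  rcases (show Fintype.card F = 4 ∨ Fintype.card F = 5 ∨ (5 ≤ Fintype.card F ∧ Fintype.card F ≠ 5) by omega) with
    h | h | ⟨h5, h5'⟩
  · exact row3_sixty (Or.inl h)
  · exact row3_sixty (Or.inr h)
  · have key : ∃ s : ℕ, s.Prime ∧ 5 ≤ s ∧ ∃ x : ProjectiveSpecialLinearGroup (Fin 2) F, orderOf x = s ∧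
        ∀ g : ProjectiveSpecialLinearGroup (Fin 2) F, g ≠ 1 → ∃ u v, g = (u * x * u⁻¹) * (v * x * v⁻¹) := by
      rcases Nat.even_or_odd (Fintype.card F) with ho | ho
      · obtain ⟨p, n, hp, hpc, hn, hc⟩ := isPrimePow_card (F := F)
        have h2 : p = 2 := by
          rw [hc] at ho
          exact (Nat.Prime.even_iff hp).1 (Nat.even_pow.1 ho).1
        subst h2
        have hn3 : 3 ≤ n := by
          by_contra hcon
          have : 2 ^ n ≤ 2 ^ 2 := Nat.pow_le_pow_right (by norm_num) (by omega)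
          omega
        obtain ⟨s, hs, hs5, hsd⟩ := exists_prime_two hn3
        exact ⟨s, hs, hs5, sq_even hs (by omega) (by rwa [hc]) ho h4⟩
      · obtain ⟨s, hs, hs5, hsd⟩ := exists_prime_sq h4 h5' h7 h17
        exact ⟨s, hs, hs5, sq_odd hs (by omega) hsd ho h5⟩
    obtain ⟨s, hs, hs5, x, hx, h⟩ := key
    refine Row3.of_sq (x := x) (hx ▸ hs) ?_ h
    rw [hx, show (6 : ℕ) = 2 * 3 from rfl]
    refine Nat.Coprime.mul_right ((Nat.coprime_primes hs Nat.prime_two).2 (by omega))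
      ((Nat.coprime_primes hs Nat.prime_three).2 (by omega))

/-- the cube of a class of prime order whose square contains everything but `1` -/
theorem cube_of_sq' {S : Type*} [Group S] {x : S} (hx : (orderOf x).Prime)
    (h : ∀ g : S, g ≠ 1 → ∃ u v : S, g = (u * x * u⁻¹) * (v * x * v⁻¹)) (g : S) :
    ∃ u v w : S, g = (u * x * u⁻¹) * (v * x * v⁻¹) * (w * x * w⁻¹) := by
  obtain ⟨w, hw⟩ : ∃ w : S, w * x * w⁻¹ ≠ g := by
    by_contra hcon
    push Not at hcon
    have h1 : ∀ u : S, u * x * u⁻¹ = x := fun u => by rw [hcon u, ← hcon 1]; group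
    have hx1 : x ≠ 1 := by
      rintro rfl
      rw [orderOf_one] at hx
      exact absurd hx (by norm_num)
    have hxx : x = x * x := by
      obtain ⟨u, v, e⟩ := h x hx1
      rwa [h1 u, h1 v] at e
    exact hx1 (by simpa using hxx)
  obtain ⟨u, v, e⟩ := h (g * (w * x * w⁻¹)⁻¹) (fun h1 => hw (mul_inv_eq_one.1 h1).symm)
  exact ⟨u, v, w, by rw [← e]; group⟩

/-- **S2452 for `PSL_2(q)`** -/
theorem s2452_psl_two (h4 : 4 ≤ Fintype.card F) : ∃ x y : ProjectiveSpecialLinearGroup (Fin 2) F, (orderOf x).Prime ∧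
      ((orderOf y).Prime ∨ ∃ s₁ s₂ : ℕ, s₁.Prime ∧ s₂.Prime ∧ s₁ ≠ s₂ ∧ orderOf y = s₁ * s₂) ∧
      (∀ g : ProjectiveSpecialLinearGroup (Fin 2) F, g ≠ 1 → ∃ u v, g = (u * x * u⁻¹) * (v * y * v⁻¹)) ∧
      (∀ g : ProjectiveSpecialLinearGroup (Fin 2) F, ∃ u v w, g = (u * x * u⁻¹) * (v * x * v⁻¹) * (w * x * w⁻¹)) := by
  by_cases h : Fintype.card F = 7 ∨ Fintype.card F = 17
  · obtain ⟨x, hx, hg⟩ := sq_odd (F := F) (s := 3) Nat.prime_three le_rfl
      (by rcases h with h | h <;> · rw [h]; norm_num) (by rcases h with h | h <;> · rw [h]; decide) (by omega)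
    have hx' : (orderOf x).Prime := hx ▸ Nat.prime_three
    exact ⟨x, x, hx', Or.inl hx', hg, cube_of_sq' hx' hg⟩
  · exact (row3_psl_two h4 (by omega) (by omega)).s2452

end

end Cfsg.Agent.H962.TC
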