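import Mathlib.Data.Nat.Prime.Basic
import Mathlib.Data.Nat.Factorization.Basic
import Mathlib.Tactic.NormNum.Prime
import Mathlib.Tactic.Positivity
import Mathlib.Tactic.Linarith
import Mathlib.Tactic.IntervalCases
import Mathlib.Tactic.Ring

/-!
# `q² - 1` and `q - 1` with no prime divisor `≥ 5`
-/

set_option autoImplicit false

namespace Cfsg.Agent.H962.TC

theorem smooth {n : ℕ} (hn : n ≠ 0) (h : ∀ s : ℕ, s.Prime → s ∣ n → s < 5) : ∃ a b, n = 2 ^ a * 3 ^ b := by
  induction n using Nat.strong_induction_on with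
  | _ n ih =>
    rcases Nat.lt_or_ge n 2 with h1 | h1
    · exact ⟨0, 0, by omega⟩
    · obtain ⟨p, hp, hpn⟩ := Nat.exists_prime_and_dvd (show n ≠ 1 by omega)
      obtain ⟨m, hm⟩ := hpn
      have hm0 : m ≠ 0 := by
        rintro rfl
        exact hn (by rw [hm, mul_zero])
      have h2 := hp.two_le
      have hlt : m < n := by
        rw [hm]
        nlinarith [Nat.pos_of_ne_zero hm0]
      obtain ⟨a, b, hab⟩ := ih m hlt hm0 fun s hs hsm => h s hs (hm ▸ Dvd.dvd.mul_left hsm p)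
      have hp5 := h p hp ⟨m, hm⟩
      have hp4 : p ≠ 4 := by
        rintro rfl
        exact absurd hp (by norm_num)
      rcases (show p = 2 ∨ p = 3 by omega) with rfl | rfl
      · exact ⟨a + 1, b, by rw [hm, hab, pow_succ]; ring⟩
      · exact ⟨a, b + 1, by rw [hm, hab, pow_succ]; ring⟩

theorem three_pow_mod (b : ℕ) : 3 ^ b % 8 = 1 ∨ 3 ^ b % 8 = 3 := by
  induction b with
  | zero => left; rfl
  | succ b ih => rw [pow_succ]; omega

theorem eight_dvd_of {k : ℕ} (hk : 3 ≤ k) : 2 ^ k % 8 = 0 := by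
  obtain ⟨j, rfl⟩ := Nat.exists_eq_add_of_le hk
  rw [pow_add]
  omega

theorem plus_one {b k : ℕ} (h : 2 ^ k = 3 ^ b + 1) : k ≤ 2 := by
  by_contra hk
  have h1 := eight_dvd_of (show 3 ≤ k by omega)
  have h2 := three_pow_mod b
  omega

theorem three_pow_mod' (b : ℕ) : 3 ^ b % 80 = 1 ∨ 3 ^ b % 80 = 3 ∨ 3 ^ b % 80 = 9 ∨ 3 ^ b % 80 = 27 := by
  induction b with
  | zero => left; rfl
  | succ b ih => rw [pow_succ]; omega

theorem two_pow_mod' (k : ℕ) : 2 ^ k % 5 ≠ 0 := by
  induction k with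
  | zero => norm_num
  | succ b ih => rw [pow_succ]; omega

theorem minus_one {b k : ℕ} (h : 2 ^ k + 1 = 3 ^ b) : k ≤ 3 := by
  by_contra hk
  have h1 : 2 ^ k % 16 = 0 := by
    obtain ⟨j, rfl⟩ := Nat.exists_eq_add_of_le (show 4 ≤ k by omega)
    rw [pow_add]
    omega
  have h2 := three_pow_mod' b
  have h3 := two_pow_mod' k
  omega

/-- **`q² - 1` has a prime divisor `≥ 5`** -/
theorem exists_prime_sq {q : ℕ} (h2 : 4 ≤ q) (h5 : q ≠ 5) (h7 : q ≠ 7) (h17 : q ≠ 17) :
    ∃ s : ℕ, s.Prime ∧ 5 ≤ s ∧ s ∣ q ^ 2 - 1 := by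
  by_contra hcon
  push Not at hcon
  have hq : q ^ 2 - 1 = (q - 1) * (q + 1) := by
    obtain ⟨r, rfl⟩ := Nat.exists_eq_add_of_le (show 1 ≤ q by omega)
    simp only [Nat.add_sub_cancel_left]
    rw [Nat.sub_eq_iff_eq_add (Nat.one_le_pow _ _ (by omega))]
    ring
  obtain ⟨a, b, hab⟩ := smooth (n := q - 1) (by omega) fun s hs hsd => by
    by_contra h
    exact hcon s hs (by omega) (hq ▸ Dvd.dvd.mul_right hsd _)
  obtain ⟨c, d, hcd⟩ := smooth (n := q + 1) (by omega) fun s hs hsd => by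
    by_contra h
    exact hcon s hs (by omega) (hq ▸ Dvd.dvd.mul_left hsd _)
  have hA : ∀ k : ℕ, 2 ≤ k → 2 ^ k % 4 = 0 := by
    intro k hk
    obtain ⟨j, rfl⟩ := Nat.exists_eq_add_of_le hk
    rw [pow_add]
    omega
  have h3 : b = 0 ∨ d = 0 := by
    by_contra h
    push Not at h
    obtain ⟨b', rfl⟩ := Nat.exists_eq_succ_of_ne_zero h.1
    obtain ⟨d', rfl⟩ := Nat.exists_eq_succ_of_ne_zero h.2
    have e1 : (q - 1) % 3 = 0 := by rw [hab, Nat.succ_eq_add_one, pow_succ, ← mul_assoc, Nat.mul_mod_left]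
    have e2 : (q + 1) % 3 = 0 := by rw [hcd, Nat.succ_eq_add_one, pow_succ, ← mul_assoc, Nat.mul_mod_left]
    omega
  have h4 : a ≤ 1 ∨ c ≤ 1 := by
    by_contra h
    push Not at h
    have e1 : (q - 1) % 4 = 0 := by rw [hab, Nat.mul_mod, hA a (by omega), Nat.zero_mul, Nat.zero_mod]
    have e2 : (q + 1) % 4 = 0 := by rw [hcd, Nat.mul_mod, hA c (by omega), Nat.zero_mul, Nat.zero_mod]
    omega
  have hpar : a = 0 ↔ c = 0 := by
    constructor
    · rintro rfl
      by_contra hc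
      obtain ⟨c', rfl⟩ := Nat.exists_eq_succ_of_ne_zero hc
      have e2 : (q + 1) % 2 = 0 := by
        rw [hcd, Nat.succ_eq_add_one, pow_succ, mul_comm (2 ^ c') 2, mul_assoc, Nat.mul_mod_right]
      have := three_pow_mod b
      rw [pow_zero, one_mul] at hab
      omega
    · rintro rfl
      by_contra hc
      obtain ⟨c', rfl⟩ := Nat.exists_eq_succ_of_ne_zero hc
      have e2 : (q - 1) % 2 = 0 := by
        rw [hab, Nat.succ_eq_add_one, pow_succ, mul_comm (2 ^ c') 2, mul_assoc, Nat.mul_mod_right]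
      have := three_pow_mod d
      rw [pow_zero, one_mul] at hcd
      omega
  rcases Nat.eq_zero_or_pos a with ha | ha
  · -- both odd
    have hc := hpar.1 ha
    subst ha hc
    rcases h3 with rfl | rfl
    · rw [pow_zero, pow_zero] at hab
      omega
    · rw [pow_zero, pow_zero] at hcd
      omega
  · have hc : 0 < c := Nat.pos_of_ne_zero fun h => by
      have := hpar.2 h
      omega
    rcases h4 with h4 | h4
    · obtain rfl : a = 1 := by omega
      rcases h3 with rfl | rfl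
      · rw [pow_one, pow_zero] at hab
        omega
      · obtain ⟨c', rfl⟩ := Nat.exists_eq_succ_of_ne_zero hc.ne'
        rw [Nat.succ_eq_add_one, pow_succ, pow_zero] at hcd
        rw [pow_one] at hab
        have h6 := plus_one (show 2 ^ c' = 3 ^ b + 1 by omega)
        interval_cases c' <;> omega
    · obtain rfl : c = 1 := by omega
      rcases h3 with rfl | rfl
      · obtain ⟨a', rfl⟩ := Nat.exists_eq_succ_of_ne_zero ha.ne'
        rw [Nat.succ_eq_add_one, pow_succ, pow_zero] at hab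
        rw [pow_one] at hcd
        have h6 := minus_one (show 2 ^ a' + 1 = 3 ^ d by omega)
        have h9 := three_pow_mod d
        interval_cases a' <;> omega
      · rw [pow_one, pow_zero] at hcd
        omega

/-- **`2 ^ f - 1` has a prime divisor `≥ 5`** -/
theorem exists_prime_two {f : ℕ} (hf : 3 ≤ f) : ∃ s : ℕ, s.Prime ∧ 5 ≤ s ∧ s ∣ 2 ^ f - 1 := by
  by_contra hcon
  push Not at hcon
  have h8 := eight_dvd_of hf
  have hpos : 0 < 2 ^ f := by positivity
  obtain ⟨a, b, hab⟩ := smooth (n := 2 ^ f - 1) (by omega) fun s hs hsd => by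
    by_contra h
    exact hcon s hs (by omega) hsd
  rcases Nat.eq_zero_or_pos a with rfl | ha
  · have := three_pow_mod b
    rw [pow_zero, one_mul] at hab
    omega
  · obtain ⟨c', rfl⟩ := Nat.exists_eq_succ_of_ne_zero ha.ne'
    have e2 : (2 ^ f - 1) % 2 = 0 := by
      rw [hab, Nat.succ_eq_add_one, pow_succ, mul_comm (2 ^ c') 2, mul_assoc, Nat.mul_mod_right]
    omega

end Cfsg.Agent.H962.TC
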